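import Cfsg.Agent.Lib.FFourLocal.ToCtrl.Fusion
import Cfsg.Agent.Lib.Chevalley.Types.SimpleF4

/-!
# The two centralisers of type `3 × Sp₆(2)` inside a copy of `F₄(2)` give the control hypothesis
-/

set_option autoImplicit false
set_option linter.unusedSectionVars false
set_option linter.style.haveILetI false

namespace Cfsg.Agent.FFourLocal.ToCtrl

open Subgroup Cfsg.Agent.SpThreeCent.SixEnd
open scoped commutatorElement

universe u v

variable {G : Type u} [Group G] {Z Q Q1 Q2 L1 L2 E : Subgroup G} {t1 t2 z y a b : G} {φ ψ : S →* G}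

theorem map_conj_pgroup {P : Subgroup G} (hP : IsPGroup 3 ↥P) (g : G) :
    IsPGroup 3 ↥(P.map (MulAut.conj g).toMonoidHom) := hP.map _

namespace Sides

variable (D : Sides Z Q Q1 Q2 L1 L2 E t1 t2 z y a b φ ψ)
include D

theorem exchange : Sides Z Q Q2 Q1 L2 L1 E t2 t1 z (y⁻¹ * z) b a ψ φ := by
  refine ⟨D.loc.symm, D.six_b, ?_⟩
  have e : (y⁻¹ * z)⁻¹ * z = y := by
    have h : Commute y z := D.loc.yz
    rw [mul_inv_rev, inv_inv, mul_assoc, h.eq, inv_mul_cancel_left]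
  rw [e]
  exact D.six_a

variable [Finite G]

theorem conj_cb {P : Subgroup G} (hP : IsPGroup 3 ↥P) (hPC : P ≤ centralizer ({b} : Set G)) :
    ∃ c ∈ centralizer ({b} : Set G), ∀ x ∈ P, c * x * c⁻¹ ∈ D.loc.stab := by
  obtain ⟨c, hc, h⟩ := D.exchange.conj_ca hP hPC
  exact ⟨c, hc, fun x hx => ⟨(h x hx).1, (h x hx).2.2, (h x hx).2.1⟩⟩

/-- A subgroup of order at least nine of the Sylow subgroup meets `Q`. -/
theorem meet_Q {W : Subgroup G} (hW : W ≤ D.loc.stab) (h9 : 9 ≤ Nat.card ↥W) :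
    ∃ x ∈ W, x ∈ Q ∧ x ≠ 1 := by
  have hn : W ≤ normalizer (Q : Set G) := fun w hw => D.loc.base.Q_norm (hW hw).1
  have h := card_prod_eq hn
  rw [D.loc.base.Q_card] at h
  have hle := Subgroup.card_le_of_le (sup_le D.loc.Q_le_stab hW : Q ⊔ W ≤ D.loc.stab)
  rw [D.card_stab] at hle
  have h2 : 1 < Nat.card ↥(Q ⊓ W) := by
    by_contra hlt
    have h1 : Nat.card ↥(Q ⊓ W) = 1 := le_antisymm (not_lt.1 hlt) Nat.card_pos
    rw [h1, mul_one] at h
    omega
  obtain ⟨⟨x, hx⟩, hx1⟩ := @exists_ne _ (Finite.one_lt_card_iff_nontrivial.1 h2) (1 : ↥(Q ⊓ W))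
  exact ⟨x, hx.2, hx.1, fun e => hx1 (Subtype.ext e)⟩

/-- The plane of points. -/
theorem plane_conj {x : G} (hx : x ∈ zpowers z ⊔ zpowers (a * b)) (h1 : x ≠ 1) :
    ∃ h ∈ Hab a b, h * x * h⁻¹ = z := by
  have hab3 : (a * b) ^ 3 = 1 := by rw [D.loc.ab.mul_pow, D.loc.a3, D.loc.b3, one_mul]
  have hc : Commute z (a * b) := D.loc.za.mul_right D.loc.zb
  obtain ⟨k, j, rfl⟩ : ∃ k j : Fin 3, x = z ^ (k : ℕ) * (a * b) ^ (j : ℕ) := by
    rw [← SetLike.mem_coe, coe_mul_of_right_le_normalizer_left _ _ (zpowers_le.2 (mem_normalizer_fintype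
      fun w hw => by
        obtain ⟨n, rfl⟩ := mem_zpowers_iff.1 hw
        rw [(hc.symm.zpow_right n).eq, mul_inv_cancel_right]
        exact hw))] at hx
    obtain ⟨u, hu, v, hv, rfl⟩ := hx
    obtain ⟨i, rfl⟩ := (mem_powers_iff_mem_zpowers.2 hu : u ∈ Submonoid.powers z)
    obtain ⟨l, rfl⟩ := (mem_powers_iff_mem_zpowers.2 hv : v ∈ Submonoid.powers (a * b))
    refine ⟨⟨i % 3, Nat.mod_lt _ (by norm_num)⟩, ⟨l % 3, Nat.mod_lt _ (by norm_num)⟩, ?_⟩
    show z ^ i * (a * b) ^ l = z ^ (i % 3) * (a * b) ^ (l % 3)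
    rw [← pow_mod_three D.loc.z3, ← pow_mod_three hab3]
  refine D.ab_point k j ?_
  by_contra h
  push Not at h
  exact h1 (by rw [h.1, h.2, Fin.val_zero, pow_zero, pow_zero, mul_one])

/-- Subgroups of order 27 of `E` meet the plane of points. -/
theorem meet_plane {F : Subgroup G} (hF : F ≤ E) (h27 : 27 ≤ Nat.card ↥F) :
    ∃ x ∈ F, x ≠ 1 ∧ ∃ h ∈ Hab a b, h * x * h⁻¹ = z := by
  haveI : Fact (Nat.Prime 3) := ⟨Nat.prime_three⟩
  set W := zpowers z ⊔ zpowers (a * b) with hW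
  have hWE : W ≤ E := sup_le (zpowers_le.2 D.loc.z_E) (zpowers_le.2 (mul_mem D.loc.a_E D.loc.b_E))
  have hn : W ≤ normalizer (F : Set G) := fun w hw => mem_normalizer_fintype fun f hf => by
    rwa [D.loc.E_comm w (hWE hw) f (hF hf), mul_inv_cancel_right]
  have h := card_prod_eq hn
  have hle := Subgroup.card_le_of_le (sup_le hF hWE : F ⊔ W ≤ E)
  rw [D.loc.E_card] at hle
  have h9 : 3 < Nat.card ↥W := by
    have hz : Nat.card ↥(zpowers z) = 3 := by rw [Nat.card_zpowers, orderOf_three D.loc.z3 D.loc.z_ne]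
    rw [← hz]
    refine lt_of_le_of_ne (Subgroup.card_le_of_le le_sup_left) fun e => D.loc.a_not ?_
    have hle' : zpowers z ⊔ zpowers (a * b) ≤ zpowers z :=
      (Subgroup.eq_of_le_of_card_ge le_sup_left e.ge).ge
    have hab : a * b ∈ Z := D.loc.z_gen ▸ hle' (mem_sup_right (mem_zpowers _))
    refine D.loc.base.inf_factors D.loc.a_mem ?_
    have : a = a * b * b⁻¹ := by group
    rw [this]
    exact mul_mem (D.loc.base.Z2 hab) (inv_mem D.loc.b_mem)
  have h2 : 1 < Nat.card ↥(F ⊓ W) := by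
    by_contra hlt
    have h1 : Nat.card ↥(F ⊓ W) = 1 := le_antisymm (not_lt.1 hlt) Nat.card_pos
    rw [h1, mul_one] at h
    have := Nat.mul_le_mul h27 h9
    omega
  obtain ⟨⟨x, hx⟩, hx1⟩ := @exists_ne _ (Finite.one_lt_card_iff_nontrivial.1 h2) (1 : ↥(F ⊓ W))
  exact ⟨x, hx.1, fun e => hx1 (Subtype.ext e), D.plane_conj hx.2 fun e => hx1 (Subtype.ext e)⟩

theorem cent_z_N : centralizer ({z} : Set G) ≤ normalizer (Hab a b : Set G) := D.cz_norm

/-- Fusion of `a` into `b`. -/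
theorem pair_ab {g : G} (hg : g * a * g⁻¹ = b) : g ∈ normalizer (Hab a b : Set G) := by
  haveI : Fact (Nat.Prime 3) := ⟨Nat.prime_three⟩
  have hE3 : IsPGroup 3 ↥E := IsPGroup.of_card (n := 4) (by rw [D.loc.E_card]; norm_num)
  obtain ⟨c, hc, hcs⟩ := D.conj_cb (hE3.map (MulAut.conj g).toMonoidHom) (by
    rintro _ ⟨x, hx, rfl⟩
    refine mem_centralizer_singleton_iff.2 ?_
    rw [← hg]
    show g * x * g⁻¹ * (g * a * g⁻¹) = g * a * g⁻¹ * (g * x * g⁻¹)
    calc _ = g * (x * a) * g⁻¹ := by group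
      _ = g * (a * x) * g⁻¹ := by rw [D.loc.E_comm x hx a D.loc.a_E]
      _ = _ := by group)
  set E' := E.map (MulAut.conj (c * g)).toMonoidHom with hE'
  have hE's : E' ≤ D.loc.stab := by
    rintro _ ⟨x, hx, rfl⟩
    show c * g * x * (c * g)⁻¹ ∈ D.loc.stab
    rw [show c * g * x * (c * g)⁻¹ = c * (g * x * g⁻¹) * c⁻¹ by group]
    exact hcs _ ⟨x, hx, rfl⟩
  have hn : E' ≤ normalizer (Q : Set G) := fun w hw => D.loc.base.Q_norm (hE's hw).1
  have h := card_prod_eq hn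
  have hle := Subgroup.card_le_of_le (sup_le D.loc.Q_le_stab hE's : Q ⊔ E' ≤ D.loc.stab)
  rw [D.loc.base.Q_card, card_map_of_injective (MulAut.conj (c * g)).injective, D.loc.E_card] at h
  rw [D.card_stab] at hle
  set F := (Q ⊓ E').map (MulAut.conj (c * g)⁻¹).toMonoidHom with hF
  have hFE : F ≤ E := by
    rintro _ ⟨w, ⟨-, u, hu, rfl⟩, rfl⟩
    show (c * g)⁻¹ * (c * g * u * (c * g)⁻¹) * (c * g)⁻¹⁻¹ ∈ E
    rwa [show (c * g)⁻¹ * (c * g * u * (c * g)⁻¹) * (c * g)⁻¹⁻¹ = u by group]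
  have h27 : 27 ≤ Nat.card ↥F := by
    rw [card_map_of_injective (MulAut.conj (c * g)⁻¹).injective]
    by_contra hlt
    have := Nat.mul_le_mul hle (show Nat.card ↥(Q ⊓ E') ≤ 26 by omega)
    omega
  obtain ⟨w, ⟨x, hx, rfl⟩, hw1, k, hk, hkz⟩ := D.meet_plane hFE h27
  have hx1 : x ≠ 1 := fun e => hw1 (by rw [e]; simp)
  obtain ⟨h', hh', he⟩ := D.Q_conj hx.1 hx1
  set m := h' * (c * g) * k⁻¹ with hm
  have hmz : m * z * m⁻¹ = h' * x * h'⁻¹ := by
    have e : k * ((c * g)⁻¹ * x * (c * g)⁻¹⁻¹) * k⁻¹ = z := hkz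
    rw [hm, ← e]
    group
  have hmN : m ∈ normalizer (Hab a b : Set G) := by
    rw [← hmz] at he
    rcases he with e | e | e
    · exact D.cent_z_N (mem_centralizer_singleton_iff.2 (mul_inv_eq_iff_eq_mul.1 e))
    · exact absurd e (D.loc.not_pt m)
    · exact absurd e (D.loc.symm.not_pt m)
  have hgm : g = c⁻¹ * h'⁻¹ * m * k := by rw [hm]; group
  rw [hgm]
  exact mul_mem (mul_mem (mul_mem (inv_mem (D.H_le_N (cent_b_le a b hc))) (inv_mem (D.H_le_N hh'))) hmN)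
    (D.H_le_N hk)

/-- Fusion among the representatives. -/
theorem pair {e e' g : G} (he : e ∈ ({z, a, b} : Set G)) (he' : e' ∈ ({z, a, b} : Set G))
    (hg : g * e * g⁻¹ = e') : g ∈ normalizer (Hab a b : Set G) := by
  have hg' : g⁻¹ * e' * g⁻¹⁻¹ = e := by rw [← hg]; group
  rcases he with he | he | he <;> rcases he' with he' | he' | he' <;> (subst he; subst he')
  · exact D.cent_z_N (mem_centralizer_singleton_iff.2 (mul_inv_eq_iff_eq_mul.1 hg))
  · exact absurd hg (D.loc.not_pt g)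
  · exact absurd hg (D.loc.symm.not_pt g)
  · exact absurd hg' (D.loc.not_pt _)
  · exact D.H_le_N (cent_a_le _ _ (mem_centralizer_singleton_iff.2 (mul_inv_eq_iff_eq_mul.1 hg)))
  · exact D.pair_ab hg
  · exact absurd hg' (D.loc.symm.not_pt _)
  · exact inv_mem_iff.1 (D.pair_ab hg')
  · exact D.H_le_N (cent_b_le _ _ (mem_centralizer_singleton_iff.2 (mul_inv_eq_iff_eq_mul.1 hg)))

theorem cent_N {f : G} (hf : f ∈ ({z, a, b} : Set G)) :
    centralizer ({f} : Set G) ≤ normalizer (Hab a b : Set G) := fun c hc =>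
  D.pair hf hf (by rw [mem_centralizer_singleton_iff.1 hc, mul_inv_cancel_right])

/-- A 3-subgroup of the centralizer of a representative moves into the Sylow subgroup. -/
theorem conj_cf {f : G} (hf : f ∈ ({z, a, b} : Set G)) {P : Subgroup G} (hP : IsPGroup 3 ↥P)
    (hPC : P ≤ centralizer ({f} : Set G)) :
    ∃ c ∈ centralizer ({f} : Set G), ∀ x ∈ P, c * x * c⁻¹ ∈ D.loc.stab := by
  rcases hf with hf | hf | hf <;> subst hf
  · obtain ⟨c, hc, h⟩ := D.conj_cz hP fun x hx => D.loc.mem_centZ.2 (mem_centralizer_singleton_iff.1 (hPC hx))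
    exact ⟨c, mem_centralizer_singleton_iff.2 (D.loc.mem_centZ.1 hc), h⟩
  · exact D.conj_ca hP hPC
  · exact D.conj_cb hP hPC

/-- The elements of order three of the Sylow subgroup. -/
theorem type_stab {d : G} (hd : d ∈ D.loc.stab) (h3 : orderOf d = 3) : Tp z a b d := by
  haveI : Fact (Nat.Prime 3) := ⟨Nat.prime_three⟩
  set A := zpowers z ⊔ zpowers a ⊔ zpowers b with hA
  have hAQ : A ≤ Q :=
    sup_le (sup_le (zpowers_le.2 D.loc.z_Q) (zpowers_le.2 D.loc.a_Q)) (zpowers_le.2 D.loc.b_Q)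
  let f : ↥A →* ↥Z := MonoidHom.mk' (fun u => ⟨d * (u : G) * d⁻¹ * (u : G)⁻¹, D.A_comm_mod hd u.2⟩)
    (fun u v => Subtype.ext (by
      have hv := D.A_comm_mod hd v.2
      have e := D.loc.base.conj_Z (D.loc.base.Q_le (hAQ u.2)) hv
      show d * ((u : G) * (v : G)) * d⁻¹ * ((u : G) * (v : G))⁻¹ =
        (d * (u : G) * d⁻¹ * (u : G)⁻¹) * (d * (v : G) * d⁻¹ * (v : G)⁻¹)
      calc d * ((u : G) * (v : G)) * d⁻¹ * ((u : G) * (v : G))⁻¹
          = (d * (u : G) * d⁻¹ * (u : G)⁻¹) * ((u : G) * (d * (v : G) * d⁻¹ * (v : G)⁻¹) * (u : G)⁻¹) := by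
            group
        _ = _ := by rw [e]))
  set W := f.ker.map A.subtype with hW
  have h9 : 9 ≤ Nat.card ↥W := by
    rw [card_map_of_injective A.subtype_injective]
    have h1 := Subgroup.card_eq_card_quotient_mul_card_subgroup f.ker
    rw [Nat.card_congr (QuotientGroup.quotientKerEquivRange f).toEquiv] at h1
    have h2 : Nat.card ↥f.range ≤ 3 := D.loc.base.Z_card ▸ Subgroup.card_le_card_group _
    have h3' : Nat.card ↥A * 3 ≥ 81 := D.card_A
    rw [h1] at h3'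
    have := Nat.mul_le_mul_right (Nat.card ↥f.ker) h2
    omega
  have hWA : W ≤ A := map_subtype_le _
  obtain ⟨g, hg⟩ := D.loc.cls d (by rw [← h3, pow_orderOf_eq_one])
  have hne : g * d * g⁻¹ ≠ 1 := fun e => orderOf_sq_ne h3 (by simpa using e)
  obtain ⟨h1, hh1, hf⟩ := D.E_conj hg hne
  set g1 := h1 * g with hg1
  have he : g1 * d * g1⁻¹ = h1 * (g * d * g⁻¹) * h1⁻¹ := by rw [hg1]; group
  rw [← he] at hf
  have hW3 : IsPGroup 3 ↥W := D.loc.stab_pgroup.to_le ((hWA.trans hAQ).trans D.loc.Q_le_stab)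
  obtain ⟨c, hc, hcs⟩ := D.conj_cf hf (hW3.map (MulAut.conj g1).toMonoidHom) (by
    rintro _ ⟨_, ⟨u, hu, rfl⟩, rfl⟩
    refine mem_centralizer_singleton_iff.2 ?_
    have hcomm : d * (u : G) * d⁻¹ * (u : G)⁻¹ = 1 := congrArg Subtype.val (MonoidHom.mem_ker.1 hu)
    have hdu : d * (u : G) = (u : G) * d := mul_inv_eq_iff_eq_mul.1 (mul_inv_eq_one.1 hcomm)
    show g1 * (u : G) * g1⁻¹ * (g1 * d * g1⁻¹) = g1 * d * g1⁻¹ * (g1 * (u : G) * g1⁻¹)
    calc _ = g1 * ((u : G) * d) * g1⁻¹ := by group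
      _ = g1 * (d * (u : G)) * g1⁻¹ := by rw [hdu]
      _ = _ := by group)
  set m := c * g1 with hm
  have hle : W.map (MulAut.conj m).toMonoidHom ≤ D.loc.stab := by
    rintro _ ⟨x, hx, rfl⟩
    show c * g1 * x * (c * g1)⁻¹ ∈ D.loc.stab
    rw [show c * g1 * x * (c * g1)⁻¹ = c * (g1 * x * g1⁻¹) * c⁻¹ by group]
    exact hcs _ ⟨x, hx, rfl⟩
  obtain ⟨_, ⟨w, hw, rfl⟩, hmwQ, hmw1⟩ := D.meet_Q hle (by
    rw [card_map_of_injective (MulAut.conj m).injective]; exact h9)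
  have hw1 : w ≠ 1 := fun e => hmw1 (by rw [e, map_one])
  obtain ⟨k, hk, hke⟩ := D.Q_conj (hAQ (hWA hw)) hw1
  obtain ⟨k', hk', hke'⟩ := D.Q_conj hmwQ hmw1
  have hmN : k' * m * k⁻¹ ∈ normalizer (Hab a b : Set G) := D.pair hke hke' (by
    show k' * m * k⁻¹ * (k * w * k⁻¹) * (k' * m * k⁻¹)⁻¹ = k' * (m * w * m⁻¹) * k'⁻¹
    group)
  have hg1N : g1 ∈ normalizer (Hab a b : Set G) := by
    have := mul_mem (mul_mem (mul_mem (inv_mem (D.cent_N hf hc)) (inv_mem (D.H_le_N hk'))) hmN) (D.H_le_N hk)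
    rwa [show c⁻¹ * k'⁻¹ * (k' * m * k⁻¹) * k = g1 by rw [hm]; group] at this
  exact ⟨g1, hg1N, hf⟩

/-- Every element of order three of the group. -/
theorem type_all {d : G} (hd : d ∈ Hab a b) (h3 : orderOf d = 3) : Tp z a b d := by
  haveI : Fact (Nat.Prime 3) := ⟨Nat.prime_three⟩
  set H := Hab a b
  obtain ⟨T, hT⟩ := (D.loc.stab_pgroup.of_injective (subgroupOfEquivOfLe D.stab_le_H).toMonoidHom
    (subgroupOfEquivOfLe D.stab_le_H).injective).exists_le_sylow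
  have hle : D.loc.stab ≤ (T : Subgroup ↥H).map H.subtype := fun x hx => ⟨⟨x, D.stab_le_H hx⟩, hT hx, rfl⟩
  have hTm : (T : Subgroup ↥H).map H.subtype = D.loc.stab := by
    refine (Subgroup.eq_of_le_of_card_ge hle ?_).symm
    obtain ⟨g, hg⟩ := D.conj_into_stab (T.2.map H.subtype)
    have := Subgroup.card_le_of_le (show ((T : Subgroup ↥H).map H.subtype).map
      (MulAut.conj g).toMonoidHom ≤ D.loc.stab by rintro _ ⟨x, hx, rfl⟩; exact hg x hx)
    rwa [card_map_of_injective (MulAut.conj g).injective] at this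
  have hp : IsPGroup 3 ↥(zpowers (⟨d, hd⟩ : ↥H)) :=
    IsPGroup.of_card (n := 1) (by rw [Nat.card_zpowers, Subgroup.orderOf_mk, h3, pow_one])
  obtain ⟨T', hT'⟩ := hp.exists_le_sylow
  obtain ⟨c, hc⟩ := MulAction.exists_smul_eq ↥H T' T
  have hmem : (c : G) * d * (c : G)⁻¹ ∈ D.loc.stab := by
    rw [← hTm]
    refine ⟨c * ⟨d, hd⟩ * c⁻¹, ?_, rfl⟩
    rw [← hc, Sylow.coe_subgroup_smul]
    exact ⟨_, hT' (mem_zpowers _), rfl⟩
  obtain ⟨n, hn, he⟩ := D.type_stab hmem (((MulAut.conj (c : G)).orderOf_eq d).trans h3)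
  refine ⟨n * c, mul_mem hn (D.H_le_N c.2), ?_⟩
  rwa [show n * (c : G) * d * (n * (c : G))⁻¹ = n * ((c : G) * d * (c : G)⁻¹) * n⁻¹ by group]

theorem move {d g : G} (hd : d ∈ Hab a b) (h3 : orderOf d = 3) (hg : g * d * g⁻¹ ∈ Hab a b) :
    g ∈ normalizer (Hab a b : Set G) := by
  obtain ⟨n, hn, he⟩ := D.type_all hd h3
  obtain ⟨n', hn', he'⟩ := D.type_all hg (((MulAut.conj g).orderOf_eq d).trans h3)
  have := D.pair he he' (g := n' * g * n⁻¹) (by group)
  have h2 := mul_mem (mul_mem (inv_mem hn') this) hn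
  rwa [show n'⁻¹ * (n' * g * n⁻¹) * n = g by group] at h2

/-- A conjugate of `a` or `b` inside `E` has its centralizer inside. -/
theorem cent_le_of_conj {x g e : G} (hx : x ∈ E) (he : e = a ∨ e = b) (hg : g * e * g⁻¹ = x) :
    centralizer ({x} : Set G) ≤ Hab a b := by
  have hx1 : x ≠ 1 := by
    intro h
    have : e = 1 := by
      calc e = g⁻¹ * (g * e * g⁻¹) * g := by group
        _ = 1 := by rw [hg, h]; group
    rcases he with rfl | rfl
    exacts [D.loc.a_ne this, D.loc.b_ne this]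
  obtain ⟨h, hh, hc⟩ := D.E_conj hx hx1
  intro c hc'
  have hcomm : h * c * h⁻¹ ∈ centralizer ({h * x * h⁻¹} : Set G) := mem_centralizer_singleton_iff.2 (by
    calc h * c * h⁻¹ * (h * x * h⁻¹) = h * (c * x) * h⁻¹ := by group
      _ = h * (x * c) * h⁻¹ := by rw [mem_centralizer_singleton_iff.1 hc']
      _ = _ := by group)
  have hin : h * c * h⁻¹ ∈ Hab a b := by
    rcases hc with hc | hc | hc
    · exfalso
      have e1 : (h * g)⁻¹ * z * ((h * g)⁻¹)⁻¹ = e := by rw [← hc, ← hg]; group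
      rcases he with rfl | rfl
      exacts [D.loc.not_pt _ e1, D.loc.symm.not_pt _ e1]
    · rw [hc] at hcomm; exact cent_a_le a b hcomm
    · rw [hc] at hcomm; exact cent_b_le a b hcomm
  have := mul_mem (mul_mem (inv_mem hh) hin) hh
  rwa [show h⁻¹ * (h * c * h⁻¹) * h = c by group] at this

/-- The centralizer of the short element `a y` or `a y⁻¹` lies inside. -/
theorem cent_ay_le (l : Fin 3) (hl : l ≠ 0) : centralizer ({a * y ^ (l : ℕ)} : Set G) ≤ Hab a b := by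
  obtain ⟨h, hh, e⟩ := D.typ_conj 1 l 0 0
  have ht : typ 1 l 0 0 = 1 := (by decide +kernel : ∀ m : Fin 3, m ≠ 0 → typ 1 m 0 0 = 1) l hl
  have hw : φ (tp l 0 0) = y ^ (l : ℕ) := by
    rw [show tp l 0 0 = px 0 ^ (l : ℕ) by simp [tp], map_pow, D.six_a.map_y]
  rw [ht, hw, Fin.val_one, pow_one] at e
  exact D.cent_le_of_conj (g := h⁻¹) (mul_mem D.loc.a_E (pow_mem D.loc.y_E _)) (Or.inr rfl) (by
    show h⁻¹ * b * h⁻¹⁻¹ = a * y ^ (l : ℕ)
    rw [show b = h * (a * y ^ (l : ℕ)) * h⁻¹ from e.symm]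
    group)

end Sides

end Cfsg.Agent.FFourLocal.ToCtrl

namespace Cfsg.Agent.FFourLocal

open Subgroup Cfsg.Agent.SpThreeCent.SixEnd

universe u v

variable {G : Type u} [Group G] [Finite G] {Z Q Q1 Q2 L1 L2 E : Subgroup G} {t1 t2 z y a b : G}
  {φ ψ : S →* G}

/-- The control hypothesis from the coordinates on both sides. -/
theorem control_of_six (D : Local Z Q Q1 Q2 L1 L2 E t1 t2 z y a b) (hφ : Six a t1 z y b φ)
    (hψ : Six b t2 z (y⁻¹ * z) a ψ) {F : Type v} [Field F] [Fintype F] (hF : Fintype.card F = 2)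
    (f : ↥(Cfsg.Lie.chevF4.group F) →* G) (hinj : Function.Injective f)
    (hφf : φ.range ≤ f.range) (hψf : ψ.range ≤ f.range) (ha : a ∈ f.range) (hb : b ∈ f.range)
    (hgen : f.range ≤ centralizer ({a} : Set G) ⊔ centralizer ({b} : Set G)) : Control f := by
  have SD : ToCtrl.Sides Z Q Q1 Q2 L1 L2 E t1 t2 z y a b φ ψ := ⟨D, hφ, hψ⟩
  have hH : f.range = ToCtrl.Hab a b := le_antisymm hgen (sup_le
    (by rw [hφ.cent]; exact sup_le (zpowers_le.2 ha) hφf)
    (by rw [hψ.cent]; exact sup_le (zpowers_le.2 hb) hψf))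
  refine ⟨hF, hinj, fun d hd h3 g hg => ?_, eq_bot_iff.2 fun c hc => ?_⟩
  · rw [hH] at hd hg ⊢
    exact SD.move hd h3 hg
  · have hcomm : ∀ x ∈ f.range, x * c = c * x := fun x hx => mem_centralizer_iff.1 hc x hx
    have ht : t1 ∈ f.range := hH ▸ SD.L1_le_H D.base.t1_mem
    have hcφ : c ∈ φ.range := by
      rw [hφ.range]
      refine mem_centralizer_iff.2 fun x hx => ?_
      rcases hx with hx | hx <;> subst hx
      exacts [hcomm _ ha, hcomm _ ht]
    obtain ⟨x, hx⟩ := hφf hcφ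
    haveI := (Chevalley.Types.SimpleF4.simple_group F).1
    have hxc : x ∈ center ↥(Cfsg.Lie.chevF4.group F) := mem_center_iff.2 fun u => hinj (by
      rw [map_mul, map_mul, hx]
      exact hcomm _ ⟨u, rfl⟩)
    rcases (inferInstance : (center ↥(Cfsg.Lie.chevF4.group F)).Normal).eq_bot_or_eq_top with h | h
    · rw [h, mem_bot] at hxc
      rw [mem_bot, ← hx, hxc, map_one]
    · exact absurd ⟨⟨fun u v => (mem_center_iff.1 (h ▸ mem_top v : v ∈ center _) u)⟩⟩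
        (Chevalley.Types.SimpleF4.simple_group F).2

end Cfsg.Agent.FFourLocal
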