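import Cfsg.Agent.Lib.FFourLocal.ToCtrl.Types

/-!
# No element outside the normalizer moves an element of order three of `⟨C(a), C(b)⟩` inside

Every such element is, after fusion in `G`, one of `z`, `a`, `b`: a group of order nine in a Sylow
3-subgroup meets `Q`, and every subgroup of order 27 of `E` meets the plane of points `⟨z, a b⟩`.
-/

set_option autoImplicit false
set_option linter.unusedSectionVars false
set_option linter.style.haveILetI false

namespace Cfsg.Agent.FFourLocal.ToCtrl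

open Subgroup Cfsg.Agent.SpThreeCent.SixEnd
open scoped commutatorElement

universe u

variable {G : Type u} [Group G] {Z Q Q1 Q2 L1 L2 E : Subgroup G} {t1 t2 z y a b : G} {φ ψ : S →* G}

/-- Conjugate under the normalizer to one of the three representatives. -/
def Tp (z a b : G) (x : G) : Prop :=
  ∃ n ∈ normalizer (Hab a b : Set G), n * x * n⁻¹ ∈ ({z, a, b} : Set G)

theorem orderOf_sq_ne {x : G} (h : orderOf x = 3) : x ≠ 1 := fun e => by simp [e] at h

namespace Sides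

variable (D : Sides Z Q Q1 Q2 L1 L2 E t1 t2 z y a b φ ψ)
include D

theorem H_le_N : Hab a b ≤ normalizer (Hab a b : Set G) := le_normalizer

theorem stab_le_H [Finite G] : D.loc.stab ≤ Hab a b := by
  rw [D.loc.stab_eq]
  exact sup_le D.Q_le_H (zpowers_le.2 (D.E_le_H D.loc.y_E))

theorem A_comm_mod {s : G} (hs : s ∈ D.loc.stab) {x : G} (hx : x ∈ zpowers z ⊔ zpowers a ⊔ zpowers b) :
    s * x * s⁻¹ * x⁻¹ ∈ Z := by
  obtain ⟨hsC, ha, hb⟩ := hs
  have hgen : ∀ w ∈ Q, w⁻¹ * (s * w * s⁻¹) ∈ Z → s * w * s⁻¹ * w⁻¹ ∈ Z := fun w hw h => by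
    have := D.loc.base.conj_Z (D.loc.base.Q_le hw) h
    rw [show s * w * s⁻¹ * w⁻¹ = w * (w⁻¹ * (s * w * s⁻¹)) * w⁻¹ by group, this]
    exact h
  have hAQ : zpowers z ⊔ zpowers a ⊔ zpowers b ≤ Q :=
    sup_le (sup_le (zpowers_le.2 D.loc.z_Q) (zpowers_le.2 D.loc.a_Q)) (zpowers_le.2 D.loc.b_Q)
  let K : Subgroup G :=
    { carrier := {w | w ∈ Q ∧ s * w * s⁻¹ * w⁻¹ ∈ Z}
      one_mem' := ⟨one_mem _, by simp⟩
      mul_mem' := by
        rintro u v ⟨hu, h1⟩ ⟨hv, h2⟩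
        refine ⟨mul_mem hu hv, ?_⟩
        rw [show s * (u * v) * s⁻¹ * (u * v)⁻¹ =
            (s * u * s⁻¹ * u⁻¹) * (u * (s * v * s⁻¹ * v⁻¹) * u⁻¹) by group,
          D.loc.base.conj_Z (D.loc.base.Q_le hu) h2]
        exact mul_mem h1 h2
      inv_mem' := by
        rintro u ⟨hu, h1⟩
        refine ⟨inv_mem hu, ?_⟩
        rw [show s * u⁻¹ * s⁻¹ * u⁻¹⁻¹ = u⁻¹ * (s * u * s⁻¹ * u⁻¹)⁻¹ * u⁻¹⁻¹ by group,
          D.loc.base.conj_Z (D.loc.base.Q_le (inv_mem hu)) (inv_mem h1)]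
        exact inv_mem h1 }
  have hz : z ∈ K := ⟨D.loc.z_Q, by
    rw [D.loc.base.conj_Z hsC D.loc.z_mem, mul_inv_cancel]; exact one_mem _⟩
  exact ((sup_le (sup_le (zpowers_le.2 hz) (zpowers_le.2 ⟨D.loc.a_Q, hgen a D.loc.a_Q ha⟩))
    (zpowers_le.2 ⟨D.loc.b_Q, hgen b D.loc.b_Q hb⟩) : zpowers z ⊔ zpowers a ⊔ zpowers b ≤ K) hx).2

/-- The nontrivial elements of `Z` are fused. -/
theorem Z_point {w : G} (hw : w ∈ Z) (h1 : w ≠ 1) : ∃ h ∈ Hab a b, h * w * h⁻¹ = z := by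
  rw [← D.loc.z_gen] at hw
  obtain ⟨n, rfl⟩ := (mem_zpowers_iff.1 hw)
  have hk : ∃ k : Fin 3, z ^ n = z ^ (k : ℕ) := by
    refine ⟨⟨(n % 3).toNat, by omega⟩, ?_⟩
    show z ^ n = z ^ ((n % 3).toNat : ℕ)
    rw [← zpow_natCast, Int.toNat_of_nonneg (Int.emod_nonneg _ (by norm_num))]
    conv_lhs => rw [← Int.emod_add_mul_ediv n 3]
    have : z ^ (3 : ℤ) = 1 := by exact_mod_cast D.loc.z3
    rw [zpow_add, zpow_mul, this, one_zpow, mul_one]
  obtain ⟨k, hk⟩ := hk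
  rw [hk] at h1 ⊢
  obtain ⟨h, hh, e⟩ := D.ab_point k 0 (Or.inl fun e => h1 (by rw [e, Fin.val_zero, pow_zero]))
  rw [Fin.val_zero, pow_zero, mul_one] at e
  exact ⟨h, hh, e⟩

variable [Finite G]

theorem card_A : Nat.card ↥(zpowers z ⊔ zpowers a ⊔ zpowers b) * 3 ≥ 81 := by
  haveI : Fact (Nat.Prime 3) := ⟨Nat.prime_three⟩
  have hle : zpowers y ≤ normalizer ((zpowers z ⊔ zpowers a ⊔ zpowers b : Subgroup G) : Set G) :=
    zpowers_le.2 (mem_normalizer_fintype fun w hw => by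
      have hwE : w ∈ E := (sup_le (sup_le (zpowers_le.2 D.loc.z_E) (zpowers_le.2 D.loc.a_E))
        (zpowers_le.2 D.loc.b_E) : zpowers z ⊔ zpowers a ⊔ zpowers b ≤ E) hw
      rwa [D.loc.E_comm y D.loc.y_E w hwE, mul_inv_cancel_right])
  have h := card_prod_eq hle
  rw [← D.loc.E_eq, D.loc.E_card, Nat.card_zpowers] at h
  have hy : orderOf y = 3 := orderOf_three D.loc.y_cube fun e => D.loc.y_not (e ▸ one_mem Q)
  rw [hy] at h
  have hpos : 0 < Nat.card ↥((zpowers z ⊔ zpowers a ⊔ zpowers b) ⊓ zpowers y) := Nat.card_pos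
  nlinarith

theorem card_stab : Nat.card ↥D.loc.stab = 729 := by
  haveI : Fact (Nat.Prime 3) := ⟨Nat.prime_three⟩
  have hd := D.loc.small D.loc.stab D.loc.stab_pgroup fun c hc => hc.1
  obtain ⟨k, hk6, hk⟩ := (Nat.dvd_prime_pow Nat.prime_three).1 (show Nat.card ↥D.loc.stab ∣ 3 ^ 6 from hd)
  have h243 : 243 < Nat.card ↥D.loc.stab := by
    rw [← D.loc.base.Q_card]
    refine lt_of_le_of_ne (Subgroup.card_le_of_le D.loc.Q_le_stab) fun e => D.loc.y_not ?_
    rw [Subgroup.eq_of_le_of_card_ge D.loc.Q_le_stab e.ge]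
    exact D.loc.y_stab
  rw [hk] at h243 ⊢
  rcases Nat.lt_or_ge k 6 with h | h
  · have := Nat.pow_le_pow_right (show 1 ≤ 3 by norm_num) (show k ≤ 5 by omega)
    omega
  · rw [show k = 6 by omega]
    norm_num

/-- A 3-group containing `Q` lies in `C(Z)`. -/
theorem le_cz {P : Subgroup G} (hP : IsPGroup 3 ↥P) (hQP : Q ≤ P) :
    P ≤ centralizer (Z : Set G) := by
  haveI : Fact (Nat.Prime 3) := ⟨Nat.prime_three⟩
  haveI : Nontrivial ↥P :=
    ⟨⟨⟨z, hQP D.loc.z_Q⟩, 1, fun e => D.loc.z_ne (congrArg Subtype.val e)⟩⟩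
  haveI := hP.center_nontrivial
  obtain ⟨⟨⟨u, hu⟩, huc⟩, hu1⟩ := exists_ne (1 : center ↥P)
  have hucomm : ∀ p ∈ P, p * u = u * p := fun p hp =>
    congrArg Subtype.val (mem_center_iff.1 huc ⟨p, hp⟩)
  have huZ : u ∈ Z := by
    rw [← D.loc.base.cent]
    exact mem_centralizer_iff.2 fun q hq => hucomm q (hQP hq)
  have hu' : (⟨u, huZ⟩ : ↥Z) ≠ 1 := fun e => hu1 (Subtype.ext (Subtype.ext (congrArg Subtype.val e :)))
  intro p hp
  refine mem_centralizer_iff.2 fun w hw => ?_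
  have hmem : (⟨w, hw⟩ : ↥Z) ∈ zpowers (⟨u, huZ⟩ : ↥Z) := by
    rw [zpowers_eq_top_of_prime_card D.loc.base.Z_card hu']
    exact mem_top _
  obtain ⟨n, hn⟩ := mem_zpowers_iff.1 hmem
  rw [← show u ^ n = w from congrArg Subtype.val hn]
  exact ((show Commute p u from hucomm p hp).zpow_right n).eq.symm

/-- Every 3-subgroup is conjugate into the Sylow 3-subgroup of `C(Z)`. -/
theorem conj_into_stab {P : Subgroup G} (hP : IsPGroup 3 ↥P) :
    ∃ g : G, ∀ x ∈ P, g * x * g⁻¹ ∈ D.loc.stab := by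
  haveI : Fact (Nat.Prime 3) := ⟨Nat.prime_three⟩
  obtain ⟨T, hT⟩ := D.loc.stab_pgroup.exists_le_sylow
  have hTC : (T : Subgroup G) ≤ centralizer (Z : Set G) :=
    D.le_cz T.2 (D.loc.Q_le_stab.trans hT)
  have hTS : (T : Subgroup G) = D.loc.stab := by
    refine (Subgroup.eq_of_le_of_card_ge hT ?_).symm
    rw [D.card_stab]
    exact Nat.le_of_dvd (by norm_num) (D.loc.small _ T.2 hTC)
  obtain ⟨T', hT'⟩ := hP.exists_le_sylow
  obtain ⟨g, hg⟩ := MulAction.exists_smul_eq G T' T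
  refine ⟨g, fun x hx => ?_⟩
  rw [← hTS, ← hg, Sylow.coe_subgroup_smul]
  exact ⟨x, hT' hx, rfl⟩

theorem cz_le_N : centralizer (Z : Set G) ≤ normalizer (Hab a b : Set G) := fun c hc =>
  D.cz_norm (mem_centralizer_singleton_iff.2 (D.loc.mem_centZ.1 hc))

/-- Every 3-subgroup of `C(Z)` is conjugate inside `C(Z)` into the Sylow subgroup. -/
theorem conj_cz {P : Subgroup G} (hP : IsPGroup 3 ↥P) (hPC : P ≤ centralizer (Z : Set G)) :
    ∃ c ∈ centralizer (Z : Set G), ∀ x ∈ P, c * x * c⁻¹ ∈ D.loc.stab := by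
  haveI : Fact (Nat.Prime 3) := ⟨Nat.prime_three⟩
  set C := centralizer (Z : Set G)
  have hSC : D.loc.stab ≤ C := fun c hc => hc.1
  obtain ⟨T, hT⟩ := (D.loc.stab_pgroup.of_injective (subgroupOfEquivOfLe hSC).toMonoidHom
    (subgroupOfEquivOfLe hSC).injective).exists_le_sylow
  have hTm : (T : Subgroup ↥C).map C.subtype = D.loc.stab := by
    have hle : D.loc.stab ≤ (T : Subgroup ↥C).map C.subtype :=
      fun x hx => ⟨⟨x, hSC hx⟩, hT hx, rfl⟩
    refine (Subgroup.eq_of_le_of_card_ge hle ?_).symm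
    rw [D.card_stab]
    exact Nat.le_of_dvd (by norm_num) (D.loc.small _ (T.2.map _) (map_subtype_le _))
  obtain ⟨T', hT'⟩ := (hP.of_injective (subgroupOfEquivOfLe hPC).toMonoidHom
    (subgroupOfEquivOfLe hPC).injective).exists_le_sylow
  obtain ⟨c, hc⟩ := MulAction.exists_smul_eq ↥C T' T
  refine ⟨c, c.2, fun x hx => ?_⟩
  rw [← hTm]
  refine ⟨c * ⟨x, hPC hx⟩ * c⁻¹, ?_, rfl⟩
  rw [← hc, Sylow.coe_subgroup_smul]
  exact ⟨_, hT' hx, rfl⟩

theorem inv_a : t1 * a * t1⁻¹ = a⁻¹ := D.loc.t1_a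

/-- A 3-subgroup of `C(a)` is conjugate inside `C(a)` into the Sylow subgroup. -/
theorem conj_ca {P : Subgroup G} (hP : IsPGroup 3 ↥P) (hPC : P ≤ centralizer ({a} : Set G)) :
    ∃ c ∈ centralizer ({a} : Set G), ∀ x ∈ P, c * x * c⁻¹ ∈ D.loc.stab := by
  haveI : Fact (Nat.Prime 3) := ⟨Nat.prime_three⟩
  set C := centralizer ({a} : Set G)
  set Ta := D.loc.stab ⊓ C with hTa
  have hTp : IsPGroup 3 ↥Ta := D.loc.stab_pgroup.to_le inf_le_left
  -- the lower bound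
  have hbound : 729 ≤ Nat.card ↥Ta * 3 := by
    have haA : a ∈ zpowers z ⊔ zpowers a ⊔ zpowers b := mem_sup_left (mem_sup_right (mem_zpowers a))
    let f : ↥D.loc.stab →* ↥Z := MonoidHom.mk' (fun s => ⟨(s : G) * a * (s : G)⁻¹ * a⁻¹, D.A_comm_mod s.2 haA⟩)
      (fun s t => Subtype.ext (by
        have e := D.loc.base.conj_Z s.2.1 (D.A_comm_mod t.2 haA)
        show ((s : G) * t) * a * ((s : G) * t)⁻¹ * a⁻¹ =
          ((s : G) * a * (s : G)⁻¹ * a⁻¹) * ((t : G) * a * (t : G)⁻¹ * a⁻¹)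
        have hm := D.loc.base.Z_comm (D.loc.base.Z_leQ (D.A_comm_mod s.2 haA)) (D.A_comm_mod t.2 haA)
        calc ((s : G) * t) * a * ((s : G) * t)⁻¹ * a⁻¹
            = ((s : G) * ((t : G) * a * (t : G)⁻¹ * a⁻¹) * (s : G)⁻¹) * ((s : G) * a * (s : G)⁻¹ * a⁻¹) := by group
          _ = ((t : G) * a * (t : G)⁻¹ * a⁻¹) * ((s : G) * a * (s : G)⁻¹ * a⁻¹) := by rw [e]
          _ = _ := hm.eq.symm))
    have h1 := Subgroup.card_eq_card_quotient_mul_card_subgroup f.ker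
    rw [Nat.card_congr (QuotientGroup.quotientKerEquivRange f).toEquiv, D.card_stab] at h1
    have h2 : Nat.card ↥f.range ≤ 3 := D.loc.base.Z_card ▸ Subgroup.card_le_card_group _
    have h3 : Nat.card ↥f.ker ≤ Nat.card ↥Ta := by
      refine Nat.card_le_card_of_injective (fun s => ⟨((s : ↥D.loc.stab) : G), ?_⟩) fun s t e => ?_
      · refine ⟨(s : ↥D.loc.stab).2, mem_centralizer_singleton_iff.2 ?_⟩
        exact mul_inv_eq_iff_eq_mul.1 (mul_inv_eq_one.1 (congrArg Subtype.val (MonoidHom.mem_ker.1 s.2)))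
      · exact Subtype.ext (Subtype.ext (congrArg Subtype.val e :))
    rw [h1]
    calc _ ≤ 3 * Nat.card ↥Ta := Nat.mul_le_mul h2 h3
      _ = _ := mul_comm _ _
  obtain ⟨T, hT⟩ := (hTp.of_injective (subgroupOfEquivOfLe (inf_le_right : Ta ≤ C)).toMonoidHom
    (subgroupOfEquivOfLe (inf_le_right : Ta ≤ C)).injective).exists_le_sylow
  set P0 := (T : Subgroup ↥C).map C.subtype with hP0
  have hP0p : IsPGroup 3 ↥P0 := T.2.map _
  have hTle : Ta ≤ P0 := fun x hx => ⟨⟨x, hx.2⟩, hT hx, rfl⟩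
  have hTm : P0 = Ta := by
    refine (Subgroup.eq_of_le_of_card_ge hTle ?_).symm
    obtain ⟨g, hg⟩ := D.conj_into_stab hP0p
    have hle : P0.map (MulAut.conj g).toMonoidHom ≤ D.loc.stab := by
      rintro _ ⟨x, hx, rfl⟩
      simpa using hg x hx
    have hd := Subgroup.card_dvd_of_le hle
    rw [card_map_of_injective (MulAut.conj g).injective, D.card_stab] at hd
    obtain ⟨k, hk6, hk⟩ := (Nat.dvd_prime_pow Nat.prime_three).1 (show Nat.card ↥P0 ∣ 3 ^ 6 from hd)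
    rcases Nat.lt_or_ge k 6 with h | h
    · have := Nat.pow_le_pow_right (show 1 ≤ 3 by norm_num) (show k ≤ 5 by omega)
      rw [hk]
      omega
    · -- the Sylow subgroup of `G` would centralise a conjugate of `a`
      exfalso
      have he : P0.map (MulAut.conj g).toMonoidHom = D.loc.stab := by
        refine Subgroup.eq_of_le_of_card_ge hle ?_
        rw [card_map_of_injective (MulAut.conj g).injective, hk, D.card_stab, show k = 6 by omega]
        norm_num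
      have haP : a ∈ P0 := hTle ⟨by
          rw [D.loc.stab_eq]; exact mem_sup_left D.loc.a_Q, mem_centralizer_singleton_iff.2 rfl⟩
      have hga : g * a * g⁻¹ ∈ centralizer (Q : Set G) := by
        refine mem_centralizer_iff.2 fun q hq => ?_
        have : q ∈ P0.map (MulAut.conj g).toMonoidHom := he ▸ D.loc.Q_le_stab hq
        obtain ⟨p, hp, rfl⟩ := this
        have hpa : p * a = a * p := mem_centralizer_singleton_iff.1 (map_subtype_le _ hp)
        show g * p * g⁻¹ * (g * a * g⁻¹) = g * a * g⁻¹ * (g * p * g⁻¹)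
        calc _ = g * (p * a) * g⁻¹ := by group
          _ = g * (a * p) * g⁻¹ := by rw [hpa]
          _ = _ := by group
      rw [D.loc.base.cent] at hga
      have hne : g * a * g⁻¹ ≠ 1 := fun e => D.loc.a_ne (by simpa using e)
      obtain ⟨k, -, e⟩ := D.Z_point hga hne
      refine D.loc.not_pt (k * g)⁻¹ ?_
      rw [← e]; group
  obtain ⟨T', hT'⟩ := (hP.of_injective (subgroupOfEquivOfLe hPC).toMonoidHom
    (subgroupOfEquivOfLe hPC).injective).exists_le_sylow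
  obtain ⟨c, hc⟩ := MulAction.exists_smul_eq ↥C T' T
  refine ⟨c, c.2, fun x hx => (hTm.le ⟨c * ⟨x, hPC hx⟩ * c⁻¹, ?_, rfl⟩).1⟩
  rw [← hc, Sylow.coe_subgroup_smul]
  exact ⟨_, hT' hx, rfl⟩

end Sides

end Cfsg.Agent.FFourLocal.ToCtrl
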