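import Cfsg.Agent.Lib.FFourLocal.SixData
import Cfsg.Agent.Lib.SpThreeCent.SixEnd.Facts

/-!
# The three-torus of `Sp₆(2)` and its classes under the monomial group
-/

set_option autoImplicit false
set_option maxRecDepth 100000

namespace Cfsg.Agent.FFourLocal.ToCtrl

open Cfsg.Agent.SpThreeCent.SixEnd

/-- The element of the torus with the exponents `k₀`, `k₁`, `k₂`. -/
def tp (k0 k1 k2 : Fin 3) : S := px 0 ^ (k0 : ℕ) * px 1 ^ (k1 : ℕ) * px 2 ^ (k2 : ℕ)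

/-- For every element of the torus: its representative and transvections carrying that to it. -/
def tbl : List (Fin 4 × List (Fin 64)) :=
  [(0, []), (1, [45, 40, 5]), (1, [44, 41, 5]), (1, [27, 24, 3]), (2, []), (2, [4]), (1, [26, 25, 3]),
    (2, [2]), (2, [4, 2]), (1, []), (2, [27, 24, 3]), (2, [31, 28, 7]), (2, [45, 40, 5]), (3, []), (3, [4]),
    (2, [47, 42, 7]), (3, [2]), (3, [4, 2]), (1, [1]), (2, [26, 25, 3]), (2, [30, 29, 7]), (2, [44, 41, 5]),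
    (3, [1]), (3, [4, 1]), (2, [46, 43, 7]), (3, [2, 1]), (3, [4, 2, 1])]

/-- The four representatives. -/
def rep4 : Fin 4 → S := ![tp 0 0 0, tp 1 0 0, tp 0 1 1, tp 1 1 1]

/-- The class of an element of the torus. -/
def idx (k0 k1 k2 : Fin 3) : Fin 4 := (tbl.getD (9 * k0.val + 3 * k1.val + k2.val) (0, [])).1

/-- The transvections carrying the representative to an element of the torus. -/
def wit (k0 k1 k2 : Fin 3) : S :=
  ((tbl.getD (9 * k0.val + 3 * k1.val + k2.val) (0, [])).2.map tvS).prod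

theorem wit_ok : ∀ k0 k1 k2 : Fin 3, ∀ x : Fin 64,
    ((tp k0 k1 k2 * wit k0 k1 k2 : S) : Equiv.Perm (Fin 64)) x =
      ((wit k0 k1 k2 * rep4 (idx k0 k1 k2) : S) : Equiv.Perm (Fin 64)) x := by
  decide +kernel

theorem wit_conj (k0 k1 k2 : Fin 3) :
    (wit k0 k1 k2)⁻¹ * tp k0 k1 k2 * wit k0 k1 k2 = rep4 (idx k0 k1 k2) := by
  rw [mul_assoc, show tp k0 k1 k2 * wit k0 k1 k2 = wit k0 k1 k2 * rep4 (idx k0 k1 k2) from
    Subtype.ext (Equiv.ext (wit_ok k0 k1 k2)), inv_mul_cancel_left]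

theorem flip_ok : ∀ x : Fin 64, ((tvS 4 * tp 0 1 1 : S) : Equiv.Perm (Fin 64)) x =
    ((px 1 * (px 2)⁻¹ * tvS 4 : S) : Equiv.Perm (Fin 64)) x := by
  decide +kernel

theorem flip_conj : tvS 4 * tp 0 1 1 * (tvS 4)⁻¹ = px 1 * (px 2)⁻¹ := by
  rw [show tvS 4 * tp 0 1 1 = px 1 * (px 2)⁻¹ * tvS 4 from Subtype.ext (Equiv.ext flip_ok),
    mul_inv_cancel_right]

/-- Powers of the three named elements inside the torus. -/
theorem word_ok : ∀ i k l : Fin 3, ∀ x : Fin 64,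
    (((px 0 * px 1 * px 2) ^ (i : ℕ) * (px 1 * (px 2)⁻¹) ^ (k : ℕ) * px 0 ^ (l : ℕ) : S) :
      Equiv.Perm (Fin 64)) x = (tp (i + l) (i + k) (i + 2 * k) : S).1 x := by
  decide +kernel

theorem word_eq (i k l : Fin 3) :
    (px 0 * px 1 * px 2) ^ (i : ℕ) * (px 1 * (px 2)⁻¹) ^ (k : ℕ) * px 0 ^ (l : ℕ) =
      tp (i + l) (i + k) (i + 2 * k) :=
  Subtype.ext (Equiv.ext (word_ok i k l))

theorem word'_ok : ∀ i p q : Fin 3, ∀ x : Fin 64,
    (((px 1 * (px 2)⁻¹) ^ (i : ℕ) * (px 0 * px 1 * px 2 * (px 0)⁻¹) ^ (p : ℕ) *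
        (px 0 * px 1 * px 2) ^ (q : ℕ) : S) :
      Equiv.Perm (Fin 64)) x = (tp q (i + p + q) (2 * i + p + q) : S).1 x := by
  decide +kernel

theorem word'_eq (i p q : Fin 3) :
    (px 1 * (px 2)⁻¹) ^ (i : ℕ) * (px 0 * px 1 * px 2 * (px 0)⁻¹) ^ (p : ℕ) *
        (px 0 * px 1 * px 2) ^ (q : ℕ) = tp q (i + p + q) (2 * i + p + q) :=
  Subtype.ext (Equiv.ext (word'_ok i p q))

theorem rep4_word : ∀ r : Fin 4, ∀ x : Fin 64, (rep4 r : S).1 x =
    (((px 0) ^ ((![0, 1, 2, 0] : Fin 4 → Fin 3) r : ℕ) *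
        (px 0 * px 1 * px 2) ^ ((![0, 0, 1, 1] : Fin 4 → Fin 3) r : ℕ) : S) :
      Equiv.Perm (Fin 64)) x := by
  decide +kernel

theorem rep4_eq (r : Fin 4) :
    rep4 r = px 0 ^ ((![0, 1, 2, 0] : Fin 4 → Fin 3) r : ℕ) *
      (px 0 * px 1 * px 2) ^ ((![0, 0, 1, 1] : Fin 4 → Fin 3) r : ℕ) :=
  Subtype.ext (Equiv.ext (rep4_word r))

/-- The final class of `a ^ i` times an element of the torus: `0` trivial, `1` short, `2` long, `3` point. -/
def typ (i k0 k1 k2 : Fin 3) : Fin 4 :=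
  let r := idx k0 k1 k2
  let p : Fin 3 := (![0, 1, 2, 0] : Fin 4 → Fin 3) r
  let q : Fin 3 := (![0, 0, 1, 1] : Fin 4 → Fin 3) r
  idx q (i + p + q) (2 * i + p + q)

theorem point_plane : ∀ k j : Fin 3, k ≠ 0 ∨ j ≠ 0 → typ j k (k + j) (k + 2 * j) = 3 := by decide +kernel

end Cfsg.Agent.FFourLocal.ToCtrl
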