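import Cfsg.Agent.Lib.FFourLocal.ToCtrl.Torus
import Cfsg.Agent.Lib.FFourLocal.Cent.Action

/-!
# The elements of order three of `E` and of `Q` inside `⟨C(a), C(b)⟩`, and `C(Z)` normalises this group
-/

set_option autoImplicit false
set_option linter.unusedSectionVars false
set_option linter.style.haveILetI false

namespace Cfsg.Agent.FFourLocal.ToCtrl

open Subgroup Cfsg.Agent.SpThreeCent.SixEnd

universe u

variable {G : Type u} [Group G]

/-- The data: the two centralisers in coordinates. -/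
structure Sides (Z Q Q1 Q2 L1 L2 E : Subgroup G) (t1 t2 z y a b : G) (φ ψ : S →* G) : Prop where
  loc : Local Z Q Q1 Q2 L1 L2 E t1 t2 z y a b
  six_a : Six a t1 z y b φ
  six_b : Six b t2 z (y⁻¹ * z) a ψ

/-- The group generated by the two centralisers. -/
abbrev Hab (a b : G) : Subgroup G := centralizer ({a} : Set G) ⊔ centralizer ({b} : Set G)

variable {Z Q Q1 Q2 L1 L2 E : Subgroup G} {t1 t2 z y a b : G} {φ ψ : S →* G}

theorem cent_a_le (a b : G) : centralizer ({a} : Set G) ≤ Hab a b := le_sup_left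

theorem cent_b_le (a b : G) : centralizer ({b} : Set G) ≤ Hab a b := le_sup_right

theorem pow_fin_inv {x : G} (h : x ^ 3 = 1) (i : Fin 3) : (x ^ (i : ℕ))⁻¹ = x ^ ((-i : Fin 3) : ℕ) := by
  refine inv_eq_of_mul_eq_one_right ?_
  rw [← pow_add, pow_mod_three h]
  have : ((i : ℕ) + ((-i : Fin 3) : ℕ)) % 3 = 0 := by revert i; decide
  rw [this, pow_zero]

namespace Sides

variable (D : Sides Z Q Q1 Q2 L1 L2 E t1 t2 z y a b φ ψ)
include D

theorem mem_φ (s : S) : φ s ∈ Hab a b := by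
  refine cent_a_le a b ?_
  rw [D.six_a.cent]
  exact mem_sup_right ⟨s, rfl⟩

theorem mem_ψ (s : S) : ψ s ∈ Hab a b := by
  refine cent_b_le a b ?_
  rw [D.six_b.cent]
  exact mem_sup_right ⟨s, rfl⟩

theorem φ_comm (s : S) : Commute (φ s) a := by
  have h : φ s ∈ centralizer ({a, t1} : Set G) := D.six_a.range ▸ ⟨s, rfl⟩
  exact (mem_centralizer_iff.1 h a (Set.mem_insert a _)).symm

theorem ψ_comm (s : S) : Commute (ψ s) b := by
  have h : ψ s ∈ centralizer ({b, t2} : Set G) := D.six_b.range ▸ ⟨s, rfl⟩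
  exact (mem_centralizer_iff.1 h b (Set.mem_insert b _)).symm

theorem map_y0 : φ (px 0) = y := D.six_a.map_y

theorem E_word {x : G} (hx : x ∈ E) :
    ∃ i j k l : Fin 3, x = a ^ (j : ℕ) * φ (tp (i + l) (i + k) (i + 2 * k)) := by
  have hc : ∀ u ∈ E, ∀ v ∈ E, Commute u v := D.loc.E_comm
  have hform : ∀ i j k l : Fin 3, a ^ (j : ℕ) * φ (tp (i + l) (i + k) (i + 2 * k)) =
      a ^ (j : ℕ) * (z ^ (i : ℕ) * b ^ (k : ℕ) * y ^ (l : ℕ)) := by
    intro i j k l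
    rw [← word_eq, map_mul, map_mul, map_pow, map_pow, map_pow, D.six_a.map_z, D.six_a.map_b, D.six_a.map_y]
  suffices h : ∃ i j k l : Fin 3, x = a ^ (j : ℕ) * (z ^ (i : ℕ) * b ^ (k : ℕ) * y ^ (l : ℕ)) by
    obtain ⟨i, j, k, l, e⟩ := h
    exact ⟨i, j, k, l, by rw [hform, e]⟩
  have hmem : x ∈ zpowers z ⊔ zpowers a ⊔ zpowers b ⊔ zpowers y := D.loc.E_eq ▸ hx
  have hp : ∀ {g : G}, g ^ 3 = 1 → ∀ u ∈ zpowers g, ∃ i : Fin 3, u = g ^ (i : ℕ) := by
    intro g hg u hu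
    obtain ⟨n, rfl⟩ := mem_zpowers_iff.1 hu
    refine ⟨⟨(n % 3).toNat, by omega⟩, ?_⟩
    show g ^ n = g ^ ((n % 3).toNat : ℕ)
    rw [← zpow_natCast, Int.toNat_of_nonneg (Int.emod_nonneg _ (by norm_num))]
    conv_lhs => rw [← Int.emod_add_mul_ediv n 3]
    rw [zpow_add, zpow_mul]
    have : g ^ (3 : ℤ) = 1 := by exact_mod_cast hg
    rw [this, one_zpow, mul_one]
  have hn : ∀ {A B : Subgroup G}, A ≤ E → B ≤ E → ∀ u ∈ A ⊔ B, ∃ v ∈ A, ∃ w ∈ B, u = v * w := by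
    intro A B hA hB u hu
    rw [← SetLike.mem_coe, coe_mul_of_right_le_normalizer_left A B (fun v hv => mem_normalizer_iff.2 fun w =>
      ⟨fun hw => by rwa [(hc v (hB hv) w (hA hw)).eq, mul_inv_cancel_right], fun hw => by
        have := hc v⁻¹ (inv_mem (hB hv)) _ (hA hw)
        have e : v⁻¹ * (v * w * v⁻¹) * v = v * w * v⁻¹ := by rw [this.eq, inv_mul_cancel_right]
        rw [show v⁻¹ * (v * w * v⁻¹) * v = w by group] at e
        rwa [← e] at hw⟩)] at hu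
    obtain ⟨v, hv, w, hw, e⟩ := hu
    exact ⟨v, hv, w, hw, e.symm⟩
  have hz := zpowers_le.2 D.loc.z_E
  have ha := zpowers_le.2 D.loc.a_E
  have hb := zpowers_le.2 D.loc.b_E
  have hy := zpowers_le.2 D.loc.y_E
  obtain ⟨v, hv, yl, hyl, rfl⟩ := hn (sup_le (sup_le hz ha) hb) hy x hmem
  obtain ⟨v', hv', bk, hbk, rfl⟩ := hn (sup_le hz ha) hb v hv
  obtain ⟨zi, hzi, aj, haj, rfl⟩ := hn hz ha v' hv'
  obtain ⟨i, rfl⟩ := hp D.loc.z3 zi hzi
  obtain ⟨j, rfl⟩ := hp D.loc.a3 aj haj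
  obtain ⟨k, rfl⟩ := hp D.loc.b3 bk hbk
  obtain ⟨l, rfl⟩ := hp D.loc.y_cube yl hyl
  refine ⟨i, j, k, l, ?_⟩
  rw [show z ^ (i : ℕ) * a ^ (j : ℕ) = a ^ (j : ℕ) * z ^ (i : ℕ) from (D.loc.za.pow_pow _ _).eq]
  simp only [mul_assoc]

/-- The four targets. -/
def tgt (_D : Sides Z Q Q1 Q2 L1 L2 E t1 t2 z y a b φ ψ) : Fin 4 → G := ![1, b, a, z]

theorem typ_conj (j k0 k1 k2 : Fin 3) :
    ∃ h ∈ Hab a b, h * (a ^ (j : ℕ) * φ (tp k0 k1 k2)) * h⁻¹ = D.tgt (typ j k0 k1 k2) := by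
  set r := idx k0 k1 k2 with hr
  set p : Fin 3 := (![0, 1, 2, 0] : Fin 4 → Fin 3) r with hp
  set q : Fin 3 := (![0, 0, 1, 1] : Fin 4 → Fin 3) r with hq
  -- inside `C(a)`
  set h1 := φ (wit k0 k1 k2)⁻¹ with hh1
  have e1 : h1 * (a ^ (j : ℕ) * φ (tp k0 k1 k2)) * h1⁻¹ = a ^ (j : ℕ) * (y ^ (p : ℕ) * z ^ (q : ℕ)) := by
    have hc : Commute h1 (a ^ (j : ℕ)) := (D.φ_comm _).pow_right _
    rw [← mul_assoc, hc.eq, mul_assoc (a ^ (j : ℕ)), mul_assoc (a ^ (j : ℕ))]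
    congr 1
    rw [hh1, ← map_inv, inv_inv, ← map_mul, ← map_mul, wit_conj, rep4_eq, map_mul, map_pow, map_pow,
      D.six_a.map_y, D.six_a.map_z]
  -- inside `C(b)`
  have e2 : a ^ (j : ℕ) * (y ^ (p : ℕ) * z ^ (q : ℕ)) = ψ (tp q (j + p + q) (2 * j + p + q)) := by
    rw [← word'_eq, map_mul, map_mul, map_pow, map_pow, map_pow, D.six_b.map_b, D.six_b.map_z,
      show ψ (px 0 * px 1 * px 2 * (px 0)⁻¹) = y by
        rw [map_mul, map_inv, D.six_b.map_z, D.six_b.map_y, mul_inv_rev, inv_inv, mul_inv_cancel_left],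
      mul_assoc]
  set t := typ j k0 k1 k2 with ht
  have ht' : t = idx q (j + p + q) (2 * j + p + q) := rfl
  set h2 := ψ (wit q (j + p + q) (2 * j + p + q))⁻¹ with hh2
  have e3 : h2 * ψ (tp q (j + p + q) (2 * j + p + q)) * h2⁻¹ = ψ (rep4 t) := by
    rw [hh2, ← map_inv, inv_inv, ← map_mul, ← map_mul, wit_conj, ← ht']
  -- the representatives
  obtain ⟨h3, hh3, e4⟩ : ∃ h3 ∈ Hab a b, h3 * ψ (rep4 t) * h3⁻¹ = D.tgt t := by
    clear_value t
    fin_cases t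
    · exact ⟨1, one_mem _, by simp [rep4, tp, tgt]⟩
    · refine ⟨φ (tvS 4), D.mem_φ _, ?_⟩
      have e : ψ (rep4 1) = φ (tp 0 1 1) := by
        rw [rep4_eq 1, show tp 0 1 1 = rep4 2 from rfl, rep4_eq 2]
        simp only [map_mul, map_pow, D.six_b.map_y, D.six_b.map_z, D.six_a.map_y, D.six_a.map_z]
        show (y⁻¹ * z) ^ 1 * z ^ 0 = y ^ 2 * z ^ 1
        rw [pow_one, pow_zero, mul_one, pow_one]
        congr 1
        exact inv_eq_of_mul_eq_one_right (by rw [← pow_succ']; exact D.loc.y_cube)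
      show φ (tvS 4) * ψ (rep4 1) * (φ (tvS 4))⁻¹ = b
      rw [e, ← map_inv, ← map_mul, ← map_mul, flip_conj, D.six_a.map_b]
    · refine ⟨ψ (tvS 4), D.mem_ψ _, ?_⟩
      show ψ (tvS 4) * ψ (rep4 2) * (ψ (tvS 4))⁻¹ = a
      rw [show rep4 2 = tp 0 1 1 from rfl, ← map_inv, ← map_mul, ← map_mul, flip_conj, D.six_b.map_b]
    · refine ⟨1, one_mem _, ?_⟩
      show 1 * ψ (rep4 3) * 1⁻¹ = z
      rw [inv_one, mul_one, one_mul, show rep4 3 = px 0 * px 1 * px 2 by simp [rep4, tp], D.six_b.map_z]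
  refine ⟨h3 * h2 * h1, mul_mem (mul_mem hh3 (D.mem_ψ _)) (D.mem_φ _), ?_⟩
  calc h3 * h2 * h1 * (a ^ (j : ℕ) * φ (tp k0 k1 k2)) * (h3 * h2 * h1)⁻¹
      = h3 * (h2 * (h1 * (a ^ (j : ℕ) * φ (tp k0 k1 k2)) * h1⁻¹) * h2⁻¹) * h3⁻¹ := by group
    _ = _ := by rw [e1, e2, e3, e4]

theorem E_conj {x : G} (hx : x ∈ E) (h1 : x ≠ 1) :
    ∃ h ∈ Hab a b, h * x * h⁻¹ ∈ ({z, a, b} : Set G) := by
  obtain ⟨i, j, k, l, rfl⟩ := D.E_word hx
  obtain ⟨h, hh, e⟩ := D.typ_conj j (i + l) (i + k) (i + 2 * k)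
  refine ⟨h, hh, ?_⟩
  rw [e]
  generalize typ j (i + l) (i + k) (i + 2 * k) = t at e
  fin_cases t
  · exact absurd (by simpa [tgt] using e) h1
  · exact Or.inr (Or.inr rfl)
  · exact Or.inr (Or.inl rfl)
  · exact Or.inl rfl

theorem ab_point (k j : Fin 3) (h : k ≠ 0 ∨ j ≠ 0) :
    ∃ h' ∈ Hab a b, h' * (z ^ (k : ℕ) * (a * b) ^ (j : ℕ)) * h'⁻¹ = z := by
  obtain ⟨h', hh, e⟩ := D.typ_conj j k (k + j) (k + 2 * j)
  rw [point_plane k j h] at e
  refine ⟨h', hh, ?_⟩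
  have hw : a ^ (j : ℕ) * φ (tp k (k + j) (k + 2 * j)) = z ^ (k : ℕ) * (a * b) ^ (j : ℕ) := by
    have h0 := word_eq k j 0
    rw [add_zero, Fin.val_zero, pow_zero, mul_one] at h0
    rw [← h0, map_mul, map_pow, map_pow, D.six_a.map_z, D.six_a.map_b, D.loc.ab.mul_pow, ← mul_assoc,
      ← mul_assoc, ((D.loc.za.symm).pow_pow _ _).eq]
  rw [← hw, e]
  rfl

theorem Q_le_H : Q ≤ Hab a b := by
  rw [← D.loc.base.Q_prod]
  refine sup_le (fun x hx => cent_b_le a b (mem_centralizer_singleton_iff.2 (D.loc.base.Q_comm x hx b D.loc.b_mem)))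
    fun x hx => cent_a_le a b (mem_centralizer_singleton_iff.2 (D.loc.base.Q_comm a D.loc.a_mem x hx).symm)

theorem L1_le_H : L1 ≤ Hab a b := fun x hx => cent_b_le a b (mem_centralizer_singleton_iff.2
  (mem_centralizer_iff.1 (D.loc.base.L1_cent hx) b D.loc.b_mem).symm)

theorem L2_le_H : L2 ≤ Hab a b := fun x hx => cent_a_le a b (mem_centralizer_singleton_iff.2
  (mem_centralizer_iff.1 (D.loc.base.L2_cent hx) a D.loc.a_mem).symm)

theorem E_le_H : E ≤ Hab a b := fun x hx => cent_a_le a b (mem_centralizer_singleton_iff.2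
  (D.loc.E_comm x hx a D.loc.a_E))

theorem Q_conj_E {x : G} (hx : x ∈ Q) : ∃ h ∈ Hab a b, h * x * h⁻¹ ∈ E := by
  have hZE : ∀ w ∈ Z, w ∈ E := fun w hw => (zpowers_le.2 D.loc.z_E) (D.loc.z_gen.symm ▸ hw)
  obtain ⟨u, hu, v, hv, rfl⟩ := D.loc.base.mem_Q_split hx
  obtain ⟨l, hl, u', hu', el⟩ : ∃ l ∈ L1, ∃ u' ∈ E, l * u' * l⁻¹ = u := by
    by_cases huZ : u ∈ Z
    · exact ⟨1, one_mem _, u, hZE u huZ, by group⟩
    obtain ⟨l, hl, w, hw, e⟩ := D.loc.base.trans1 a D.loc.a_mem D.loc.a_not u hu huZ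
    refine ⟨l, hl, a * w, mul_mem D.loc.a_E (hZE w hw), ?_⟩
    rw [show l * (a * w) * l⁻¹ = l * a * l⁻¹ * (l * w * l⁻¹) by group,
      D.loc.base.conj_Z (D.loc.base.L1_le hl) hw, e]
  obtain ⟨m, hm, v', hv', em⟩ : ∃ m ∈ L2, ∃ v' ∈ E, m * v' * m⁻¹ = v := by
    by_cases hvZ : v ∈ Z
    · exact ⟨1, one_mem _, v, hZE v hvZ, by group⟩
    obtain ⟨m, hm, w, hw, e⟩ := D.loc.base.trans2 b D.loc.b_mem D.loc.b_not v hv hvZ
    refine ⟨m, hm, b * w, mul_mem D.loc.b_E (hZE w hw), ?_⟩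
    rw [show m * (b * w) * m⁻¹ = m * b * m⁻¹ * (m * w * m⁻¹) by group,
      D.loc.base.conj_Z (D.loc.base.L2_le hm) hw, e]
  refine ⟨(l * m)⁻¹, inv_mem (mul_mem (D.L1_le_H hl) (D.L2_le_H hm)), ?_⟩
  have hlm : l * m = m * l := D.loc.base.L_comm l hl m hm
  have e1 : l⁻¹ * v * l = v := by
    rw [mul_assoc, mem_centralizer_iff.1 (D.loc.base.L1_cent hl) v hv, inv_mul_cancel_left]
  have e2 : m⁻¹ * (l⁻¹ * u * l) * m = l⁻¹ * u * l := by
    have hmem : l⁻¹ * u * l ∈ Q1 := by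
      simpa using (mem_normalizer_iff.1 (inv_mem (D.loc.base.L1_norm hl)) u).1 hu
    rw [mul_assoc, mem_centralizer_iff.1 (D.loc.base.L2_cent hm) _ hmem, inv_mul_cancel_left]
  have e : (l * m)⁻¹ * (u * v) * (l * m)⁻¹⁻¹ = u' * v' := by
    calc (l * m)⁻¹ * (u * v) * (l * m)⁻¹⁻¹
        = (m⁻¹ * (l⁻¹ * u * l) * m) * (m⁻¹ * (l⁻¹ * v * l) * m) := by group
      _ = (l⁻¹ * u * l) * (m⁻¹ * v * m) := by rw [e2, e1]
      _ = u' * v' := by rw [← el, ← em]; group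
  rw [e]
  exact mul_mem hu' hv'

theorem Q_conj {x : G} (hx : x ∈ Q) (h1 : x ≠ 1) :
    ∃ h ∈ Hab a b, h * x * h⁻¹ ∈ ({z, a, b} : Set G) := by
  obtain ⟨h, hh, he⟩ := D.Q_conj_E hx
  obtain ⟨k, hk, e⟩ := D.E_conj he fun e => h1 (by
    have : x = h⁻¹ * (h * x * h⁻¹) * h := by group
    rw [this, e]; group)
  refine ⟨k * h, mul_mem hk hh, ?_⟩
  rwa [show k * h * x * (k * h)⁻¹ = k * (h * x * h⁻¹) * k⁻¹ by group]

variable [Finite G]

/-- A conjugate of `a` in `Q` has its centralizer inside. -/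
theorem cent_conj_le {x : G} (hx : x ∈ Q) {g e : G} (he : e = a ∨ e = b) (hg : g * e * g⁻¹ = x) :
    centralizer ({x} : Set G) ≤ Hab a b := by
  have hx1 : x ≠ 1 := by
    intro h
    have : e = 1 := by
      calc e = g⁻¹ * (g * e * g⁻¹) * g := by group
        _ = 1 := by rw [hg, h]; group
    rcases he with rfl | rfl
    exacts [D.loc.a_ne this, D.loc.b_ne this]
  obtain ⟨h, hh, hc⟩ := D.Q_conj hx hx1
  have hcase : ∀ f, h * x * h⁻¹ = f → centralizer ({f} : Set G) ≤ Hab a b →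
      centralizer ({x} : Set G) ≤ Hab a b := by
    intro f hf hle c hc'
    have h1 : h * c * h⁻¹ ∈ centralizer ({f} : Set G) := mem_centralizer_singleton_iff.2 (by
      rw [← hf]
      calc h * c * h⁻¹ * (h * x * h⁻¹) = h * (c * x) * h⁻¹ := by group
        _ = h * (x * c) * h⁻¹ := by rw [mem_centralizer_singleton_iff.1 hc']
        _ = _ := by group)
    have := mul_mem (mul_mem (inv_mem hh) (hle h1)) hh
    rwa [show h⁻¹ * (h * c * h⁻¹) * h = c by group] at this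
  rcases hc with hc | hc | hc
  · exfalso
    have e1 : (h * g)⁻¹ * z * ((h * g)⁻¹)⁻¹ = e := by rw [← hc, ← hg]; group
    rcases he with rfl | rfl
    exacts [D.loc.not_pt _ e1, D.loc.symm.not_pt _ e1]
  · exact hcase a hc (cent_a_le a b)
  · exact hcase b hc (cent_b_le a b)

/-- `C(Z)` normalises the group. -/
theorem cz_norm : centralizer ({z} : Set G) ≤ normalizer (Hab a b : Set G) := by
  intro c hc
  have hcZ : c ∈ centralizer (Z : Set G) := D.loc.mem_centZ.2 (mem_centralizer_singleton_iff.1 hc)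
  have key : ∀ e, (e = a ∨ e = b) → ∀ u ∈ centralizer ({e} : Set G), c * u * c⁻¹ ∈ Hab a b := by
    intro e he u hu
    have heQ : e ∈ Q := by
      rcases he with rfl | rfl
      exacts [D.loc.a_Q, D.loc.b_Q]
    refine D.cent_conj_le (D.loc.base.conj_memQ hcZ heQ) he rfl (mem_centralizer_singleton_iff.2 ?_)
    calc c * u * c⁻¹ * (c * e * c⁻¹) = c * (u * e) * c⁻¹ := by group
      _ = c * (e * u) * c⁻¹ := by rw [mem_centralizer_singleton_iff.1 hu]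
      _ = _ := by group
  have hle : Hab a b ≤ (Hab a b).comap (MulAut.conj c).toMonoidHom :=
    sup_le (fun u hu => by simpa using key a (Or.inl rfl) u hu) fun u hu => by simpa using key b (Or.inr rfl) u hu
  refine mem_normalizer_fintype fun u hu => ?_
  simpa using hle hu

end Sides

end Cfsg.Agent.FFourLocal.ToCtrl
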